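import Groth.Agent.AlgSpB.Points
import Groth.Agent.AlgSpB.Diag
import Groth.Agent.AlgSpB.Charts
import Groth.Agent.AlgSpB.Open
import Groth.Agent.Desc44.IndQAEff
import Groth.Agent.S1402
import Mathlib.AlgebraicGeometry.Morphisms.LocalFlatDescent

/-!
# Maps to algebraic spaces satisfy fpqc descent
-/

universe u

open CategoryTheory CategoryTheory.Limits AlgebraicGeometry Opposite
open _root_.AlgSp Groth.Agent.AlgSpB

set_option autoImplicit false
set_option backward.isDefEq.respectTransparency false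
set_option backward.isDefEq.respectTransparency.types false

namespace Groth.Agent.AlgSpB.Fpqc

variable {S : Scheme.{u}}

/-- Morphisms of schemes descend along flat surjective quasi-compact morphisms. -/
theorem existsUnique_descend {A B Z : Scheme.{u}} (q : A ⟶ B) [Flat q] [Surjective q] [QuasiCompact q] (e : A ⟶ Z)
    (he : ∀ (W : Scheme.{u}) (g₁ g₂ : W ⟶ A), g₁ ≫ q = g₂ ≫ q → g₁ ≫ e = g₂ ≫ e) :
    ∃! g : B ⟶ Z, q ≫ g = e := by
  have hsh := (GrothendieckTopology.Subcanonical.isSheaf_of_isRepresentable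
    (J := Scheme.fpqcTopology) (yoneda.obj Z)).isSheafFor _
    (Precoverage.generate_mem_toGrothendieck (Scheme.Hom.singleton_mem_fpqcPrecoverage q))
  rw [← Presieve.ofArrows_pUnit.{u}, Presieve.isSheafFor_arrows_iff] at hsh
  obtain ⟨g, hg, hu⟩ := hsh (fun _ => e) fun _ _ W a b hab => he W a b hab
  exact ⟨g, hg PUnit.unit, fun g' hg' => hu g' fun _ => hg'⟩

theorem hom_ext_descend {A B Z : Scheme.{u}} (q : A ⟶ B) [Flat q] [Surjective q] [QuasiCompact q] {g g' : B ⟶ Z}
    (h : q ≫ g = q ≫ g') : g = g' :=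
  (existsUnique_descend q (q ≫ g) fun W a b e => by rw [reassoc_of% e]).unique rfl h.symm

/-- Two maps into a space with representable diagonal agree if they agree after an fpqc base change. -/
theorem hom_ext_fpqc {X : Sp S} (hX : Representable (Limits.diag X)) {T T' : Over S} (q : T' ⟶ T)
    [Flat q.left] [Surjective q.left] [QuasiCompact q.left] {y₁ y₂ : (yon S).obj T ⟶ X}
    (h : (yon S).map q ≫ y₁ = (yon S).map q ≫ y₂) : y₁ = y₂ := by
  obtain ⟨E, snd, fst, sq⟩ := hX (prod.lift y₁ y₂)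
  have hm : ∀ {W : Over S} (a b : W ⟶ E), a ≫ snd = b ≫ snd → a = b := fun a b e => by
    apply (yon S).map_injective
    apply sq.hom_ext
    · refine (cancel_mono (Limits.diag X)).1 ?_
      rw [Category.assoc, Category.assoc, sq.w, ← Functor.map_comp_assoc, e, Functor.map_comp, Category.assoc]
    · rw [← Functor.map_comp, e, Functor.map_comp]
  obtain ⟨l, hl⟩ := (yon S).map_surjective (sq.lift ((yon S).map q ≫ y₁) ((yon S).map q) (by
    apply prod.hom_ext <;> simp [h]))
  have hl2 : l ≫ snd = q := (yon S).map_injective (by rw [Functor.map_comp, hl, sq.lift_snd])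
  obtain ⟨s, hs, -⟩ := existsUnique_descend q.left l.left fun W a b e => by
    have e2 : (a ≫ l.left) ≫ snd.left = (b ≫ l.left) ≫ snd.left := by
      simp only [Category.assoc, ← Over.comp_left, hl2, e]
    have hw : (b ≫ l.left) ≫ E.hom = (a ≫ l.left) ≫ E.hom := by
      rw [← Over.w snd, ← Category.assoc, ← e2, Category.assoc]
    exact congrArg CommaMorphism.left (hm (W := Over.mk ((a ≫ l.left) ≫ E.hom)) (Over.homMk (a ≫ l.left) rfl)
      (Over.homMk (b ≫ l.left) hw) (Over.OverMorphism.ext e2))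
  have hs2 : s ≫ snd.left = 𝟙 T.left := hom_ext_descend q.left (by
    rw [reassoc_of% hs, ← Over.comp_left, hl2, Category.comp_id])
  let s' : T ⟶ E := Over.homMk s (by rw [← Over.w snd, reassoc_of% hs2])
  have hs' : s' ≫ snd = 𝟙 T := Over.OverMorphism.ext hs2
  have e := congrArg ((yon S).map s' ≫ ·) sq.w
  rw [← Functor.map_comp_assoc, hs', CategoryTheory.Functor.map_id, Category.id_comp, ← Category.assoc] at e
  have e1 := congrArg (· ≫ prod.fst) e
  have e2 := congrArg (· ≫ prod.snd) e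
  simp only [Category.assoc, prod.lift_fst, prod.lift_snd, Limits.diag, Category.comp_id] at e1 e2
  exact e1.symm.trans e2

variable {U T T' P : Over S} {r : P ⟶ U} {p : P ⟶ T'} {X : Sp S} {a : (yon S).obj U ⟶ X}
  {x : (yon S).obj T' ⟶ X}

theorem lifts_ext (hP : IsPullback ((yon S).map r) ((yon S).map p) a x) {W : Scheme.{u}} {g₁ g₂ : W ⟶ P.left}
    (e₁ : g₁ ≫ r.left = g₂ ≫ r.left) (e₂ : g₁ ≫ p.left = g₂ ≫ p.left) : g₁ = g₂ := by
  have hw : g₂ ≫ P.hom = g₁ ≫ P.hom := by rw [← Over.w r, reassoc_of% e₁]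
  exact congrArg CommaMorphism.left ((yon S).map_injective (hP.hom_ext
    (k := (yon S).map (Over.homMk g₁ rfl : Over.mk (g₁ ≫ P.hom) ⟶ P))
    (l := (yon S).map (Over.homMk g₂ hw : Over.mk (g₁ ≫ P.hom) ⟶ P))
    (by rw [← Functor.map_comp, ← Functor.map_comp]; exact congrArg (yon S).map (Over.OverMorphism.ext e₁))
    (by rw [← Functor.map_comp, ← Functor.map_comp]; exact congrArg (yon S).map (Over.OverMorphism.ext e₂))))

variable (hP : IsPullback ((yon S).map r) ((yon S).map p) a x) (q : T' ⟶ T)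
  (hx : ∀ (W : Over S) (g₁ g₂ : W ⟶ T'), g₁ ≫ q = g₂ ≫ q → (yon S).map g₁ ≫ x = (yon S).map g₂ ≫ x)

include hP hx in
theorem exists_transfer {W : Scheme.{u}} (x₀ x₁ : W ⟶ T'.left) (h : x₀ ≫ q.left = x₁ ≫ q.left)
    (v : Desc.Lifts (Over.mk p.left) x₀) :
    ∃ w : Desc.Lifts (Over.mk p.left) x₁, w.1 ≫ r.left = v.1 ≫ r.left := by
  have hv : v.1 ≫ p.left = x₀ := v.2
  let W₀ : Over S := Over.mk (x₀ ≫ T'.hom)
  let X₀ : W₀ ⟶ T' := Over.homMk x₀ rfl
  let X₁ : W₀ ⟶ T' := Over.homMk x₁ (by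
    change x₁ ≫ T'.hom = x₀ ≫ T'.hom
    rw [← Over.w q, reassoc_of% h])
  let v₀ : W₀ ⟶ P := Over.homMk v.1 (by
    change v.1 ≫ P.hom = x₀ ≫ T'.hom
    rw [← Over.w p, ← Category.assoc]
    exact congrArg (· ≫ T'.hom) hv)
  have e0 : v₀ ≫ p = X₀ := Over.OverMorphism.ext hv
  obtain ⟨k, hk⟩ := (yon S).map_surjective (hP.lift ((yon S).map (v₀ ≫ r)) ((yon S).map X₁) (by
    rw [Functor.map_comp, Category.assoc, hP.w, ← Functor.map_comp_assoc, e0]
    exact hx W₀ X₀ X₁ (Over.OverMorphism.ext h)))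
  have k1 : k ≫ r = v₀ ≫ r := (yon S).map_injective (by rw [Functor.map_comp, hk, hP.lift_fst])
  have k2 : k ≫ p = X₁ := (yon S).map_injective (by rw [Functor.map_comp, hk, hP.lift_snd])
  exact ⟨⟨k.left, congrArg CommaMorphism.left k2⟩, congrArg CommaMorphism.left k1⟩

/-- The pullback of a chart along a map with descent datum carries a descent datum. -/
noncomputable def dd : Desc.SchDD q.left where
  obj := Over.mk p.left
  φ W x₀ x₁ h :=
    { toFun := fun v => (exists_transfer hP q hx x₀ x₁ h v).choose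
      invFun := fun w => (exists_transfer hP q hx x₁ x₀ h.symm w).choose
      left_inv := fun v => Subtype.ext (lifts_ext hP
        ((exists_transfer hP q hx x₁ x₀ h.symm _).choose_spec.trans (exists_transfer hP q hx x₀ x₁ h v).choose_spec)
        ((exists_transfer hP q hx x₁ x₀ h.symm _).choose.2.trans v.2.symm))
      right_inv := fun v => Subtype.ext (lifts_ext hP
        ((exists_transfer hP q hx x₀ x₁ h _).choose_spec.trans (exists_transfer hP q hx x₁ x₀ h.symm v).choose_spec)
        ((exists_transfer hP q hx x₀ x₁ h _).choose.2.trans v.2.symm)) }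
  φ_natural W W' g x₀ x₁ h h' v v' hv' := by
    refine lifts_ext hP ((exists_transfer hP q hx _ _ h' v').choose_spec.trans ?_)
      ((exists_transfer hP q hx _ _ h' v').choose.2.trans ?_)
    · rw [hv', Category.assoc, Category.assoc]
      exact congrArg (g ≫ ·) (exists_transfer hP q hx x₀ x₁ h v).choose_spec.symm
    · exact (congrArg (g ≫ ·) (exists_transfer hP q hx x₀ x₁ h v).choose.2.symm).trans (Category.assoc _ _ _).symm
  φ_self W x₀ v := Subtype.ext (lifts_ext hP (exists_transfer hP q hx x₀ x₀ rfl v).choose_spec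
    ((exists_transfer hP q hx x₀ x₀ rfl v).choose.2.trans v.2.symm))
  φ_comp W x₀ x₁ x₂ h₀₁ h₁₂ v := Subtype.ext (lifts_ext hP
    (((exists_transfer hP q hx x₁ x₂ h₁₂ _).choose_spec.trans (exists_transfer hP q hx x₀ x₁ h₀₁ v).choose_spec).trans
      (exists_transfer hP q hx x₀ x₂ (h₀₁.trans h₁₂) v).choose_spec.symm)
    ((exists_transfer hP q hx x₁ x₂ h₁₂ _).choose.2.trans
      (exists_transfer hP q hx x₀ x₂ (h₀₁.trans h₁₂) v).choose.2.symm))

include hP hx in
/-- The part of the map over an affine chart descends to an etale piece of the base. -/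
theorem exists_piece (ha : RepWith @Etale a) [IsAffine U.left] [IsAffine T.left] [IsAffine T'.left]
    [Flat q.left] [Surjective q.left] :
    ∃ (V : Over S) (v : V ⟶ T) (y : (yon S).obj V ⟶ X), Etale v.left ∧
      Set.range v.left = q.left '' Set.range p.left ∧
      ∀ (Z : Over S) (b : Z ⟶ V) (t : Z ⟶ T'), b ≫ v = t ≫ q → (yon S).map b ≫ y = (yon S).map t ≫ x := by
  have : Etale p.left := ha.2 _ _ _ hP
  have := locallyQuasiFinite_of_etale p.left
  have : IsSeparated U.hom := IsSeparated.of_comp U.hom (terminal.from S)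
  have : Mono (pairHom r p) := ⟨fun g₁ g₂ e => lifts_ext hP
    (by simpa using congrArg (· ≫ pullback.fst U.hom T'.hom) e)
    (by simpa using congrArg (· ≫ pullback.snd U.hom T'.hom) e)⟩
  have : IsSeparated p.left := by
    rw [← pullback.lift_snd (f := U.hom) (g := T'.hom) r.left p.left (by rw [Over.w r, Over.w p])]
    infer_instance
  obtain ⟨V, ⟨e⟩⟩ := Groth.Agent.Desc44.IndQA.effective (dd hP q hx) (Groth.Agent.S1402.result p.left)
  let h : pullback q.left V.hom ⟶ P.left := e.hom.hom.left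
  have hh : h ≫ p.left = pullback.fst q.left V.hom := Over.w e.hom.hom
  have hinv : e.inv.hom.left ≫ h = 𝟙 P.left :=
    congrArg (fun k : dd hP q hx ⟶ dd hP q hx => k.hom.left) e.inv_hom_id
  have hinv' : h ≫ e.inv.hom.left = 𝟙 _ :=
    congrArg (fun k : (Desc.toDD q.left).obj V ⟶ (Desc.toDD q.left).obj V => k.hom.left) e.hom_inv_id
  have : IsIso h := ⟨e.inv.hom.left, hinv', hinv⟩
  have : Etale V.hom := MorphismProperty.of_pullback_fst_of_descendsAlong (P := @Etale)
    (Q := @Surjective ⊓ @Flat ⊓ @QuasiCompact) (f := q.left) ⟨⟨‹_›, ‹_›⟩, inferInstance⟩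
    (by rw [← hh]; infer_instance)
  have hcomm : ∀ (W : Scheme.{u}) (g₁ g₂ : W ⟶ pullback q.left V.hom),
      g₁ ≫ pullback.snd _ _ = g₂ ≫ pullback.snd _ _ → g₁ ≫ h ≫ r.left = g₂ ≫ h ≫ r.left := fun W g₁ g₂ hg => by
    have h0 : (g₁ ≫ pullback.fst _ _) ≫ q.left = (g₂ ≫ pullback.fst _ _) ≫ q.left := by
      rw [Category.assoc, Category.assoc, pullback.condition, reassoc_of% hg]
    let w : Desc.Lifts (dd hP q hx).obj (g₁ ≫ pullback.fst q.left V.hom) :=
      ⟨g₁ ≫ h, by change (g₁ ≫ h) ≫ p.left = _; rw [Category.assoc, hh]⟩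
    have hc := e.hom.comm (g₁ ≫ pullback.fst _ _) (g₂ ≫ pullback.fst _ _) h0 ⟨g₁, rfl⟩ w rfl
    have e2 : ((Desc.toDD q.left).obj V).φ (g₁ ≫ pullback.fst q.left V.hom) (g₂ ≫ pullback.fst q.left V.hom) h0
        ⟨g₁, rfl⟩ = ⟨g₂, rfl⟩ := Subtype.ext (by
      apply pullback.hom_ext
      · simp [Desc.toDD, Desc.canonicalDD]
      · simp [Desc.toDD, Desc.canonicalDD, hg])
    rw [e2] at hc
    have e3 : ((dd hP q hx).φ _ _ h0 w).1 ≫ r.left = w.1 ≫ r.left :=
      (exists_transfer hP q hx _ _ h0 w).choose_spec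
    rw [hc] at e3
    simpa [w, h] using e3.symm
  obtain ⟨rV, hrV, -⟩ := existsUnique_descend (pullback.snd q.left V.hom) (h ≫ r.left) hcomm
  let V' : Over S := Over.mk (V.hom ≫ T.hom)
  let v : V' ⟶ T := Over.homMk V.hom rfl
  let rV' : V' ⟶ U := Over.homMk rV (hom_ext_descend (pullback.snd q.left V.hom) (by
    change pullback.snd _ _ ≫ rV ≫ U.hom = pullback.snd _ _ ≫ V.hom ≫ T.hom
    rw [reassoc_of% hrV, Over.w r, ← Over.w p, reassoc_of% hh, ← Over.w q, pullback.condition_assoc]))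
  refine ⟨V', v, (yon S).map rV' ≫ a, ‹Etale V.hom›, ?_, fun Z b t hbt => ?_⟩
  · have e1 : Set.range p.left = Set.range (pullback.fst q.left V.hom) := by
      rw [← hh, Scheme.Hom.comp_base, TopCat.coe_comp, Set.range_comp, h.surjective.range_eq, Set.image_univ]
    rw [e1, Scheme.Pullback.range_fst, Set.image_preimage_eq _ q.left.surjective]
    rfl
  · let c : Z.left ⟶ pullback q.left V.hom :=
      pullback.lift t.left b.left (congrArg CommaMorphism.left hbt).symm
    let c' : Z ⟶ P := Over.homMk (c ≫ h) (by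
      rw [← Over.w p, Category.assoc, reassoc_of% hh, ← Category.assoc, pullback.lift_fst, Over.w t])
    have e1 : c' ≫ r = b ≫ rV' := Over.OverMorphism.ext (by
      change (c ≫ h) ≫ r.left = b.left ≫ rV
      rw [Category.assoc, ← hrV, ← Category.assoc, pullback.lift_snd])
    have e2 : c' ≫ p = t := Over.OverMorphism.ext (by
      change (c ≫ h) ≫ p.left = t.left
      rw [Category.assoc, hh, pullback.lift_fst])
    rw [← Functor.map_comp_assoc, ← e1, Functor.map_comp, Category.assoc, hP.w, ← Functor.map_comp_assoc, e2]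

end Groth.Agent.AlgSpB.Fpqc
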