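import Groth.Agent.AlgSpB.Fpqc.Descend
import Groth.Agent.AdeqSite.SigmaPre
import Mathlib.AlgebraicGeometry.Sites.SheafQuasiCompact

/-!
# Algebraic spaces are fpqc sheaves
-/

universe u

open CategoryTheory CategoryTheory.Limits AlgebraicGeometry Opposite
open _root_.AlgSp Groth.Agent.AlgSpB Groth.Agent.AdeqSite

set_option autoImplicit false
set_option backward.isDefEq.respectTransparency false
set_option backward.isDefEq.respectTransparency.types false

namespace Groth.Agent.AlgSpB.Fpqc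

variable {S : Scheme.{u}}

/-- An fppf sheaf satisfies descent for fppf families. -/
theorem isSheafFor_fppf (X : Sp S) {U : Over S} {ι : Type*} (V : ι → Over S) (f : ∀ i, V i ⟶ U)
    (hcov : Presieve.ofArrows (fun i => (V i).left) (fun i => (f i).left) ∈ Scheme.fppfPrecoverage U.left) :
    Presieve.IsSheafFor X.obj (Presieve.ofArrows V f) := by
  refine Presieve.IsSheaf.isSheafFor ((isSheaf_iff_isSheaf_of_type _ _).1 X.property) _ ?_
  rw [GrothendieckTopology.mem_over_iff]
  change Sieve.overEquiv U (Sieve.ofArrows V f) ∈ Scheme.fppfPrecoverage.toGrothendieck U.left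
  rw [Sieve.overEquiv_ofArrows]
  exact Precoverage.generate_mem_toGrothendieck hcov

open Groth.Agent.AlgSp in
/-- Two maps agree if they do so on an fppf family. -/
theorem hom_ext_fppf {X : Sp S} {U : Over S} {ι : Type*} (V : ι → Over S) (f : ∀ i, V i ⟶ U)
    (hcov : Presieve.ofArrows (fun i => (V i).left) (fun i => (f i).left) ∈ Scheme.fppfPrecoverage U.left)
    {y₁ y₂ : (yon S).obj U ⟶ X} (h : ∀ i, (yon S).map (f i) ≫ y₁ = (yon S).map (f i) ≫ y₂) : y₁ = y₂ := by
  refine yEquiv.injective ((isSheafFor_fppf X V f hcov).isSeparatedFor.ext ?_)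
  rintro W g ⟨i⟩
  rw [← yEquiv_map, ← yEquiv_map, h i]

theorem mem_fppf_of_etale {U : Scheme.{u}} {ι : Type*} (V : ι → Scheme.{u}) (f : ∀ i, V i ⟶ U) [∀ i, Etale (f i)]
    (hs : ∀ x : U, ∃ i, x ∈ Set.range (f i)) : Presieve.ofArrows V f ∈ Scheme.fppfPrecoverage U :=
  (Scheme.Cover.mkOfCovers (P := @Flat ⊓ @LocallyOfFinitePresentation) ι V f
    (fun x => (hs x).imp fun _ hi => hi) fun _ => ⟨inferInstance, inferInstance⟩).mem₀

open Groth.Agent.AlgSp in
/-- Maps to an algebraic space descend along flat surjective morphisms of affine schemes. -/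
theorem existsUnique_hom {X : Sp S} (hX : IsAlgSpace X) {T T' : Over S} (q : T' ⟶ T) [IsAffine T.left]
    [IsAffine T'.left] [Flat q.left] [Surjective q.left] (x : (yon S).obj T' ⟶ X)
    (hx : ∀ (W : Over S) (g₁ g₂ : W ⟶ T'), g₁ ≫ q = g₂ ≫ q → (yon S).map g₁ ≫ x = (yon S).map g₂ ≫ x) :
    ∃! y : (yon S).obj T ⟶ X, (yon S).map q ≫ y = x := by
  refine existsUnique_of_exists_of_unique ?_ fun y₁ y₂ h₁ h₂ => hom_ext_fpqc hX.diag q (h₁.trans h₂.symm)
  obtain ⟨U₀, a₀, ha₀, hs₀⟩ := hX.atlas
  obtain ⟨P₀, r₀, p₀, hP₀⟩ := exists_pullback_yon ha₀.1 x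
  have : Surjective p₀.left := hs₀.2 _ _ _ hP₀
  let U : U₀.left.affineOpens → Over S := fun k => Over.mk (k.1.ι ≫ U₀.hom)
  let c : ∀ k, U k ⟶ U₀ := fun k => Over.homMk k.1.ι rfl
  have haf : ∀ k, IsAffine (U k).left := fun k => k.2
  have hce : ∀ k, RepWith @Etale ((yon S).map (c k) ≫ a₀) := fun k =>
    MorphismProperty.comp_mem _ _ _ ((repWith_yon_map_iff _ _).2 (inferInstanceAs (Etale k.1.ι))) ha₀
  choose P r p hP using fun k => exists_pullback_yon (hce k).1 x
  choose V v y hve hvr hvy using fun k => exists_piece (hP k) q hx (hce k)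
  have hjoint : ∀ t : T'.left, ∃ k, t ∈ Set.range (p k).left := fun t => by
    obtain ⟨z, hz⟩ := p₀.left.surjective t
    obtain ⟨W, hW, hzW, -⟩ := exists_isAffineOpen_mem_and_subset (x := r₀.left z) (U := ⊤) trivial
    refine ⟨⟨W, hW⟩, ?_⟩
    let O : Over S := Over.mk ((r₀.left ⁻¹ᵁ W).ι ≫ P₀.hom)
    let i : O ⟶ P₀ := Over.homMk (r₀.left ⁻¹ᵁ W).ι rfl
    let rW : O ⟶ U ⟨W, hW⟩ := Over.homMk (r₀.left ∣_ W) (by
      change (r₀.left ∣_ W) ≫ W.ι ≫ U₀.hom = _
      rw [morphismRestrict_ι_assoc, Over.w r₀]; rfl)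
    have e : rW ≫ c ⟨W, hW⟩ = i ≫ r₀ := Over.OverMorphism.ext (morphismRestrict_ι _ _)
    obtain ⟨m, hm⟩ := (yon S).map_surjective ((hP ⟨W, hW⟩).lift ((yon S).map rW) ((yon S).map (i ≫ p₀)) (by
      rw [← Functor.map_comp_assoc, e, Functor.map_comp, Category.assoc, hP₀.w, ← Functor.map_comp_assoc]))
    have hm2 : m ≫ p ⟨W, hW⟩ = i ≫ p₀ := (yon S).map_injective (by
      rw [Functor.map_comp, hm, IsPullback.lift_snd])
    refine ⟨m.left (⟨z, hzW⟩ : r₀.left ⁻¹ᵁ W), ?_⟩
    rw [← Scheme.Hom.comp_apply, ← Over.comp_left, hm2]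
    exact hz
  have hcov : Presieve.ofArrows (fun k => (V k).left) (fun k => (v k).left) ∈ Scheme.fppfPrecoverage T.left := by
    have := hve
    refine mem_fppf_of_etale _ _ fun t => ?_
    obtain ⟨t', rfl⟩ := q.left.surjective t
    obtain ⟨k, hk⟩ := hjoint t'
    exact ⟨k, (hvr k).symm ▸ ⟨t', hk, rfl⟩⟩
  have hsh := (Presieve.isSheafFor_arrows_iff _ _).1 (isSheafFor_fppf X V v hcov)
  obtain ⟨s, hs, -⟩ := hsh (fun k => yEquiv (y k)) fun i j Z gi gj hg => by
    rw [← yEquiv_map, ← yEquiv_map]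
    congr 1
    let Z' : Over S := Over.mk (pullback.fst (gi ≫ v i).left q.left ≫ Z.hom)
    let π : Z' ⟶ Z := Over.homMk (pullback.fst _ _) rfl
    let ζ : Z' ⟶ T' := Over.homMk (pullback.snd (gi ≫ v i).left q.left) (by
      change pullback.snd _ _ ≫ T'.hom = pullback.fst _ _ ≫ Z.hom
      rw [← Over.w q, ← pullback.condition_assoc, Over.w (gi ≫ v i)])
    have e : (π ≫ gi) ≫ v i = ζ ≫ q := by rw [Category.assoc]; exact Over.OverMorphism.ext pullback.condition
    have : Flat π.left := inferInstanceAs (Flat (pullback.fst (gi ≫ v i).left q.left))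
    have : Surjective π.left := inferInstanceAs (Surjective (pullback.fst (gi ≫ v i).left q.left))
    have : QuasiCompact π.left := inferInstanceAs (QuasiCompact (pullback.fst (gi ≫ v i).left q.left))
    refine hom_ext_fpqc hX.diag π ?_
    rw [← Functor.map_comp_assoc, ← Functor.map_comp_assoc, hvy i _ _ ζ e,
      hvy j _ (π ≫ gj) ζ (by rw [Category.assoc, ← hg, ← Category.assoc, e])]
  refine ⟨yEquiv.symm s, ?_⟩
  have hsk : ∀ k, (yon S).map (v k) ≫ yEquiv.symm s = y k := fun k => yEquiv.injective (by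
    rw [yEquiv_map, Equiv.apply_symm_apply]; exact hs k)
  let Q : U₀.left.affineOpens → Over S := fun k => Over.mk (pullback.fst q.left (v k).left ≫ T'.hom)
  let π : ∀ k, Q k ⟶ T' := fun k => Over.homMk (pullback.fst _ _) rfl
  let σ : ∀ k, Q k ⟶ V k := fun k => Over.homMk (pullback.snd q.left (v k).left) (by
    change pullback.snd _ _ ≫ (V k).hom = pullback.fst _ _ ≫ T'.hom
    rw [← Over.w (v k), ← pullback.condition_assoc, Over.w q])
  have he : ∀ k, Etale (π k).left := fun k => (have := hve k; inferInstanceAs (Etale (pullback.fst q.left (v k).left)))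
  refine hom_ext_fppf Q π (mem_fppf_of_etale _ _ fun t => ?_) fun k => ?_
  · obtain ⟨k, hk⟩ := hjoint t
    refine ⟨k, ?_⟩
    change t ∈ Set.range (pullback.fst q.left (v k).left)
    rw [Scheme.Pullback.range_fst, Set.mem_preimage, hvr k]
    exact ⟨t, hk, rfl⟩
  · have e : σ k ≫ v k = π k ≫ q := Over.OverMorphism.ext pullback.condition.symm
    rw [← Functor.map_comp_assoc, ← e, Functor.map_comp, Category.assoc, hsk, hvy k _ _ _ e]

open Groth.Agent.AlgSp in
/-- An algebraic space is a sheaf for the fpqc topology. -/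
theorem isSheaf {X : Sp S} (hX : IsAlgSpace X) : Presheaf.IsSheaf (Scheme.fpqcTopology.over S) X.obj := by
  rw [isSheaf_iff_isSheaf_of_type]
  have hrep : Presieve.IsSheaf Scheme.fpqcTopology (yoneda.obj S) :=
    GrothendieckTopology.Subcanonical.isSheaf_of_isRepresentable _
  have hQ : Presieve.IsSheaf Scheme.fpqcTopology (sigmaPre X.obj) := by
    rw [Scheme.fpqcTopology_eq_propQCTopology, isSheaf_type_propQCTopology_iff]
    refine ⟨?_, fun {R B} φ hflat hsurj => ?_⟩
    · rw [Precoverage.isSheaf_toGrothendieck_iff_of_isStableUnderBaseChange]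
      intro Y F hF
      obtain ⟨ι, V, f, rfl⟩ := F.exists_eq_ofArrows
      refine isSheafFor_sigmaPre f (hrep.isSheafFor _ ?_) fun g => ?_
      · exact Precoverage.generate_mem_toGrothendieck (Scheme.zariskiPrecoverage_le_fpqcPrecoverage _ hF)
      · exact isSheafFor_fppf X (fun i => Over.mk (f i ≫ g)) _ (Scheme.zariskiPrecoverage_le_fppfPrecoverage _ hF)
    · rw [← Presieve.ofArrows_pUnit.{u}]
      refine isSheafFor_sigmaPre _ (hrep.isSheafFor _ ?_) fun g => ?_
      · rw [Presieve.ofArrows_pUnit]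
        exact Precoverage.generate_mem_toGrothendieck (Scheme.Hom.singleton_mem_fpqcPrecoverage _)
      · let T : Over S := Over.mk g
        let T' : Over S := Over.mk (Spec.map φ ≫ g)
        let q : T' ⟶ T := Over.homMk (Spec.map φ) rfl
        have : IsAffine T.left := inferInstanceAs (IsAffine (Spec R))
        have : IsAffine T'.left := inferInstanceAs (IsAffine (Spec B))
        have : Flat q.left := hflat
        have : Surjective q.left := hsurj
        rw [Presieve.isSheafFor_arrows_iff]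
        intro z hz
        obtain ⟨y, hy, hu⟩ := existsUnique_hom hX q (yEquiv.symm (z PUnit.unit)) fun W g₁ g₂ e => yEquiv.injective (by
          rw [yEquiv_map, yEquiv_map, Equiv.apply_symm_apply]
          exact hz PUnit.unit PUnit.unit W g₁ g₂ e)
        refine ⟨yEquiv y, fun i => ?_, fun t ht => ?_⟩
        · rw [← yEquiv_map]
          exact (congrArg yEquiv hy).trans (Equiv.apply_symm_apply _ _)
        · refine (yEquiv.apply_symm_apply t).symm.trans (congrArg yEquiv (hu _ (yEquiv.injective ?_)))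
          rw [yEquiv_map, Equiv.apply_symm_apply, Equiv.apply_symm_apply]
          exact ht PUnit.unit
  intro U R hR
  rw [GrothendieckTopology.mem_over_iff] at hR
  exact isSheafFor_of_sigmaPre R (hrep _ hR).isSeparatedFor (hQ _ hR)

end Groth.Agent.AlgSpB.Fpqc
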